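import Mathlib
import Groth.Agent.H68.ZMT.FppfFinite

/-!
# fppf coverings of an affine scheme are refined by standard ph coverings (helper68)
-/

set_option autoImplicit false
universe w u
open CategoryTheory CategoryTheory.Limits AlgebraicGeometry

namespace Groth.Agent.H68.Fppf

/-- A finite fppf family over a quasi-compact quasi-separated scheme is dominated,
Zariski-locally on a finite finitely presented surjective cover, by its members. -/
theorem exists_finite_fp_dominating_family {S : Scheme.{u}} [CompactSpace S]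
    [QuasiSeparatedSpace S] {n : ℕ} (V : Fin n → Scheme.{u}) (g : ∀ k, V k ⟶ S)
    [∀ k, Flat (g k)] [∀ k, LocallyOfFinitePresentation (g k)]
    (hsurj : ∀ s : S, ∃ (k : Fin n) (x : V k), g k x = s) :
    ∃ (Y : Scheme.{u}) (π : Y ⟶ S), Surjective π ∧ IsFinite π ∧ LocallyOfFinitePresentation π ∧
      ∀ y : Y, ∃ (W : Y.Opens) (k : Fin n) (h : (W : Scheme.{u}) ⟶ V k), y ∈ W ∧
        h ≫ g k = W.ι ≫ π := by
  let G : ∐ V ⟶ S := Sigma.desc g
  have hG1 : Flat G := inferInstance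
  have hG2 : LocallyOfFinitePresentation G := IsZariskiLocalAtSource.sigmaDesc fun _ => inferInstance
  have hG3 : Surjective G := by
    refine Surjective.sigmaDesc_of_union_range_eq_univ ?_
    rw [Set.eq_univ_iff_forall]
    intro s
    obtain ⟨k, x, hx⟩ := hsurj s
    exact Set.mem_iUnion.mpr ⟨k, x, hx⟩
  obtain ⟨Y, π, h1, h2, h3, h4⟩ := Groth.Agent.H68.ZMT.exists_finite_fp_dominating_fppf G
  refine ⟨Y, π, h1, h2, h3, fun y => ?_⟩
  obtain ⟨W₀, h, hyW₀, hh⟩ := h4 y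
  obtain ⟨k, x, hx⟩ := (sigmaOpenCover V).exists_eq (h ⟨y, hyW₀⟩)
  change (Sigma.ι V k) x = _ at hx
  -- the open of `W₀` mapping into the `k`-th summand
  let O : (W₀ : Scheme.{u}).Opens := h ⁻¹ᵁ (Sigma.ι V k).opensRange
  have hyO : (⟨y, hyW₀⟩ : (W₀ : Scheme.{u})) ∈ O := ⟨x, hx⟩
  let W : Y.Opens := W₀.ι ''ᵁ O
  let eW : (W : Scheme.{u}) ≅ (O : Scheme.{u}) := (W₀.ι.isoImage O).symm
  have hle : Set.range ⇑(O.ι ≫ h) ⊆ Set.range ⇑(Sigma.ι V k) := by
    rintro _ ⟨z, rfl⟩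
    rw [Scheme.Hom.comp_apply]
    exact z.2
  let l : (O : Scheme.{u}) ⟶ V k := IsOpenImmersion.lift (Sigma.ι V k) (O.ι ≫ h) hle
  have hl : l ≫ Sigma.ι V k = O.ι ≫ h := IsOpenImmersion.lift_fac _ _ _
  refine ⟨W, k, eW.hom ≫ l, ⟨⟨y, hyW₀⟩, hyO, rfl⟩, ?_⟩
  have hgk : g k = Sigma.ι V k ≫ G := (Sigma.ι_desc g k).symm
  rw [hgk, Category.assoc, reassoc_of% hl, hh]
  rw [← Category.assoc, ← Category.assoc]
  congr 1
  rw [Category.assoc]
  exact Scheme.Hom.isoImage_inv_ι W₀.ι O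

end Groth.Agent.H68.Fppf
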