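import Mathlib
import Groth.Prelude.Def_HTop
import Groth.Agent.H68.Fppf.PhCover

/-!
# fppf coverings are ph coverings (helper68)
-/

set_option autoImplicit false
universe w u
open CategoryTheory CategoryTheory.Limits AlgebraicGeometry

namespace Groth.Agent.H68.Fppf

set_option backward.isDefEq.respectTransparency false in
theorem isPhCover_of_fppf {T : Scheme.{u}} (E : PreZeroHypercover.{w} T)
    (hflat : ∀ i, Flat (E.f i)) (hfp : ∀ i, LocallyOfFinitePresentation (E.f i))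
    (hsurj : ∀ t : T, ∃ (i : E.I₀) (x : E.X i), E.f i x = t) : HTop.IsPhCover E := by
  classical
  refine ⟨fun i => inferInstance, fun U => ?_⟩
  have hUaff : IsAffine ((U : T.Opens) : Scheme.{u}) := U.2
  -- finitely many members cover `U`
  have hUc : IsCompact ((U : T.Opens) : Set T) := U.2.isCompact
  have hopen : ∀ i, IsOpen (Set.range ⇑(E.f i)) := fun i => (E.f i).isOpenMap.isOpen_range
  obtain ⟨s, hs⟩ := hUc.elim_finite_subcover (fun i => Set.range ⇑(E.f i)) hopen (fun t _ => by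
    obtain ⟨i, x, hx⟩ := hsurj t
    exact Set.mem_iUnion.mpr ⟨i, x, hx⟩)
  let idx : Fin s.card → E.I₀ := fun k => (s.equivFin.symm k).1
  let V : Fin s.card → Scheme.{u} := fun k => ((E.f (idx k) ⁻¹ᵁ (U : T.Opens) : (E.X (idx k)).Opens))
  let g : ∀ k, V k ⟶ ((U : T.Opens) : Scheme.{u}) := fun k => E.f (idx k) ∣_ (U : T.Opens)
  have hgfl : ∀ k, Flat (g k) := fun k => inferInstance
  have hgfp : ∀ k, LocallyOfFinitePresentation (g k) := fun k => inferInstance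
  have hcov : ∀ u : ((U : T.Opens) : Scheme.{u}), ∃ (k : Fin s.card) (x : V k), g k x = u := by
    intro u
    obtain ⟨i, hi⟩ := Set.mem_iUnion.mp (hs u.2)
    obtain ⟨his, x, hx⟩ := Set.mem_iUnion.mp hi
    obtain ⟨k, hk⟩ : ∃ k, idx k = i := ⟨s.equivFin ⟨i, his⟩, by simp [idx]⟩
    subst hk
    have hxU : x ∈ E.f (idx k) ⁻¹ᵁ (U : T.Opens) := by
      change E.f (idx k) x ∈ (U : T.Opens)
      rw [hx]
      exact u.2
    refine ⟨k, ⟨x, hxU⟩, ?_⟩
    apply Subtype.ext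
    rw [← hx]
    exact morphismRestrict_base_coe (E.f (idx k)) (U : T.Opens) ⟨x, hxU⟩
  obtain ⟨Y, π, hπs, hπf, hπp, hloc⟩ := exists_finite_fp_dominating_family V g hcov
  have hYaff : IsAffine Y := isAffine_of_isAffineHom π
  -- affine refinement
  have hloc' : ∀ y : Y, ∃ (W : Y.Opens) (k : Fin s.card) (h : (W : Scheme.{u}) ⟶ V k),
      IsAffineOpen W ∧ y ∈ W ∧ h ≫ g k = W.ι ≫ π := by
    intro y
    obtain ⟨W, k, h, hyW, hh⟩ := hloc y
    obtain ⟨_, ⟨W', hW', rfl⟩, hyW', hle⟩ :=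
      Y.isBasis_affineOpens.exists_subset_of_mem_open hyW W.isOpen
    have hle' : W' ≤ W := hle
    refine ⟨W', k, Y.homOfLE hle' ≫ h, hW', hyW', ?_⟩
    rw [Category.assoc, hh, Scheme.homOfLE_ι_assoc]
  choose W k h hWaff hyW hh using hloc'
  obtain ⟨tY, htY⟩ := isCompact_univ.elim_finite_subcover (fun y : Y => ((W y : Y.Opens) : Set Y))
    (fun y => (W y).isOpen) (fun y _ => Set.mem_iUnion.mpr ⟨y, hyW y⟩)
  let pt : Fin tY.card → Y := fun j => (tY.equivFin.symm j).1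
  let F : PreZeroHypercover.{0} ((U : T.Opens) : Scheme.{u}) :=
    { I₀ := Fin tY.card
      X := fun j => ((W (pt j) : Y.Opens) : Scheme.{u})
      f := fun j => (W (pt j)).ι ≫ π }
  refine ⟨F, ⟨hUaff, inferInstanceAs (Finite (Fin tY.card)), fun j => hWaff (pt j),
    ⟨Y, π, fun j => (W (pt j)).ι, inferInstance, hπs, fun j => inferInstance, fun j => rfl, ?_⟩⟩, ?_⟩
  · intro y
    obtain ⟨y', hy'⟩ := Set.mem_iUnion.mp (htY (Set.mem_univ y))
    obtain ⟨hy't, hyW'⟩ := Set.mem_iUnion.mp hy'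
    refine ⟨tY.equivFin ⟨y', hy't⟩, ?_⟩
    have hpt : pt (tY.equivFin ⟨y', hy't⟩) = y' := by simp [pt]
    change y ∈ Set.range ⇑(W (pt (tY.equivFin ⟨y', hy't⟩))).ι
    rw [hpt, Scheme.Opens.range_ι]
    exact hyW'
  · intro j
    refine ⟨idx (k (pt j)), h (pt j) ≫ (E.f (idx (k (pt j))) ⁻¹ᵁ (U : T.Opens)).ι, ?_⟩
    change (h (pt j) ≫ (E.f (idx (k (pt j))) ⁻¹ᵁ (U : T.Opens)).ι) ≫ E.f (idx (k (pt j))) =
      ((W (pt j)).ι ≫ π) ≫ (U : T.Opens).ι
    rw [Category.assoc, ← morphismRestrict_ι, ← Category.assoc]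
    congr 1
    exact hh (pt j)

end Groth.Agent.H68.Fppf
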