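import Mathlib
import Groth.Agent.H47.QF.SchemeQF
import Groth.Agent.H53.ZMT.LocalStr2

/-!
# fppf covers are refined by elementary étale neighbourhoods followed by finite flat covers
(helper68)
-/

set_option autoImplicit false
universe u
open CategoryTheory CategoryTheory.Limits AlgebraicGeometry

namespace Groth.Agent.H68.Fppf

/-- If `h : U ⟶ X` admits a section over (a field isomorphic to) the residue field of `x`, the
residue field extension at the image point of the section is trivial. -/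
theorem isIso_residueFieldMap_of_section' {U X : Scheme.{u}} (h : U ⟶ X) (x : X) {K : Type u}
    [Field K] (φ : X.residueField x ⟶ CommRingCat.of K) [IsIso φ] (σ : Spec (.of K) ⟶ U)
    (hσ : σ ≫ h = Spec.map φ ≫ X.fromSpecResidueField x) :
    IsIso (h.residueFieldMap (σ (IsLocalRing.closedPoint K))) := by
  let B : U.residueField (σ (IsLocalRing.closedPoint K)) ⟶ CommRingCat.of K :=
    Scheme.descResidueField (Scheme.stalkClosedPointTo σ)
  have hcomp : Scheme.descResidueField (Scheme.stalkClosedPointTo (σ ≫ h)) =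
      h.residueFieldMap (σ (IsLocalRing.closedPoint K)) ≫ B :=
    Scheme.descResidueField_stalkClosedPointTo_comp h σ
  have h0 : Scheme.SpecToEquivOfField K X (σ ≫ h) = ⟨x, φ⟩ := by
    rw [hσ]
    exact (Scheme.SpecToEquivOfField K X).apply_symm_apply ⟨x, φ⟩
  obtain ⟨e₁, he₁⟩ := (Scheme.SpecToEquivOfField_eq_iff).mp h0
  have hiso : IsIso (h.residueFieldMap (σ (IsLocalRing.closedPoint K)) ≫ B) := by
    rw [← hcomp]
    change IsIso ((Scheme.SpecToEquivOfField K X) (σ ≫ h)).2
    rw [he₁]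
    infer_instance
  have hBinj : Function.Injective B.hom := B.hom.injective
  have hBsurj : Function.Surjective B.hom := by
    intro k
    have hbij := (ConcreteCategory.isIso_iff_bijective
      (h.residueFieldMap (σ (IsLocalRing.closedPoint K)) ≫ B)).mp hiso
    obtain ⟨a, ha⟩ := hbij.2 k
    exact ⟨(h.residueFieldMap (σ (IsLocalRing.closedPoint K))).hom a, ha⟩
  haveI : IsIso B := (ConcreteCategory.isIso_iff_bijective B).mpr ⟨hBinj, hBsurj⟩
  exact IsIso.of_isIso_comp_right (h.residueFieldMap (σ (IsLocalRing.closedPoint K))) B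

set_option backward.isDefEq.respectTransparency false in
/-- fppf covers are dominated, on an *elementary* étale neighbourhood of any point, by a finite
flat cover, with a global map to the cover. -/
theorem exists_elementary_etale_finite_flat_global {S₁ S : Scheme.{u}} (g : S₁ ⟶ S) [Flat g]
    [LocallyOfFinitePresentation g] (x : S₁) :
    ∃ (S' V : Scheme.{u}) (e : S' ⟶ S) (π : V ⟶ S') (r : V ⟶ S₁) (u : S'), Etale e ∧
      e u = g x ∧ IsIso (e.residueFieldMap u) ∧ Surjective π ∧ IsFinite π ∧ Flat π ∧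
      LocallyOfFinitePresentation π ∧ r ≫ g = π ≫ e := by
  obtain ⟨T, h, r₀, hr₀, hfl, hfp, hqf, ⟨t, ht⟩⟩ := Groth.Agent.H47.QF.exists_local_piece g x
  obtain ⟨U, gU, σ, hUaff, hgU, hσ, V, hVfin, ⟨v, hvV, hv1, hv2⟩, -⟩ :=
    Groth.Agent.H53.ZMT.exists_elementary_etale_finite_of_quasiFiniteAt h (x := t) (s := g x) ht
      (h.quasiFiniteAt t)
  let π₀ : (V : Scheme.{u}) ⟶ U := V.ι ≫ pullback.snd h gU
  have hπ₀fl : Flat π₀ := inferInstance
  have hπ₀fp : LocallyOfFinitePresentation π₀ := inferInstance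
  have hπ₀open : IsOpenMap π₀ := π₀.isOpenMap
  let S' : U.Opens := ⟨Set.range π₀, hπ₀open.isOpen_range⟩
  have hrange : Set.range π₀ ⊆ Set.range S'.ι := by
    intro y hy
    rw [Scheme.Opens.range_ι]
    exact hy
  let π : (V : Scheme.{u}) ⟶ (S' : Scheme.{u}) := IsOpenImmersion.lift S'.ι π₀ hrange
  have hπ : π ≫ S'.ι = π₀ := IsOpenImmersion.lift_fac _ _ _
  have hsq : IsPullback (𝟙 (V : Scheme.{u})) π π₀ S'.ι := by
    have h1 : IsPullback (𝟙 (V : Scheme.{u})) π π (𝟙 (S' : Scheme.{u})) :=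
      IsPullback.of_horiz_isIso ⟨by simp⟩
    have h2 : IsPullback (𝟙 (S' : Scheme.{u})) (𝟙 (S' : Scheme.{u})) S'.ι S'.ι :=
      (IsKernelPair.id_of_mono S'.ι)
    have := h1.paste_vert h2
    simpa [hπ] using this
  -- the section over the residue field lands in `S'`
  have hσrange : Set.range σ ⊆ Set.range S'.ι := by
    rintro _ ⟨z, rfl⟩
    rw [Scheme.Opens.range_ι, ← hv2 z]
    exact ⟨⟨v, hvV⟩, rfl⟩
  let σ' : Spec (S.residueField (g x)) ⟶ (S' : Scheme.{u}) := IsOpenImmersion.lift S'.ι σ hσrange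
  have hσ' : σ' ≫ S'.ι = σ := IsOpenImmersion.lift_fac _ _ _
  have hσ'e : σ' ≫ S'.ι ≫ gU = Spec.map (𝟙 (S.residueField (g x))) ≫
      S.fromSpecResidueField (g x) := by
    rw [reassoc_of% hσ', hσ, Spec.map_id, Category.id_comp]
  have hiso := isIso_residueFieldMap_of_section' (K := S.residueField (g x)) (S'.ι ≫ gU) (g x)
    (𝟙 (S.residueField (g x))) σ' hσ'e
  refine ⟨S', V, S'.ι ≫ gU, π, V.ι ≫ pullback.fst h gU ≫ r₀,
    σ' (IsLocalRing.closedPoint (S.residueField (g x))), inferInstance, ?_, hiso, ?_, ?_, ?_, ?_, ?_⟩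
  · rw [← Scheme.Hom.comp_apply, hσ'e, Spec.map_id, Category.id_comp,
      Scheme.fromSpecResidueField_apply]
  · constructor
    rintro ⟨y, x, rfl⟩
    refine ⟨x, ?_⟩
    apply S'.ι.injective
    rw [← Scheme.Hom.comp_apply, hπ]
    rfl
  · exact MorphismProperty.of_isPullback (P := @IsFinite) hsq hVfin
  · exact MorphismProperty.of_isPullback (P := @Flat) hsq hπ₀fl
  · exact MorphismProperty.of_isPullback (P := @LocallyOfFinitePresentation) hsq hπ₀fp
  · rw [← Category.assoc π, hπ]
    simp only [π₀, Category.assoc]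
    rw [hr₀, ← pullback.condition]

end Groth.Agent.H68.Fppf
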