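import Mathlib
import Groth.Agent.H47.QF.SchemeQF
import Groth.Agent.S9778

/-!
# fppf covers are, étale locally, dominated by finite flat covers — with a global map (helper68)

Variant of helper87's S1379 which keeps a *global* morphism from the finite flat cover to the
member of the fppf cover: for `g : S₁ ⟶ S` flat and locally of finite presentation and a point `x`
of `S₁`, there are an étale `e : S' ⟶ S` whose image contains `g x`, a surjective finite flat
finitely presented `π : V ⟶ S'` and `r : V ⟶ S₁` with `r ≫ g = π ≫ e`.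
-/

set_option autoImplicit false
universe u
open CategoryTheory CategoryTheory.Limits AlgebraicGeometry

namespace Groth.Agent.H68.Fppf

theorem exists_etale_finite_flat_global {S₁ S : Scheme.{u}} (g : S₁ ⟶ S) [Flat g]
    [LocallyOfFinitePresentation g] (x : S₁) :
    ∃ (S' V : Scheme.{u}) (e : S' ⟶ S) (π : V ⟶ S') (r : V ⟶ S₁) (u : S'), Etale e ∧
      e u = g x ∧ Surjective π ∧ IsFinite π ∧ Flat π ∧ LocallyOfFinitePresentation π ∧
      r ≫ g = π ≫ e := by
  classical
  obtain ⟨T, h, r₀, hr₀, hfl, hfp, hqf, ⟨t, ht⟩⟩ := Groth.Agent.H47.QF.exists_local_piece g x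
  obtain ⟨T₀, hT₀, htT₀, -⟩ := exists_isAffineOpen_mem_and_subset (X := T) (x := t) (U := ⊤) trivial
  have : IsAffine (T₀ : Scheme.{u}) := hT₀
  let f : (T₀ : Scheme.{u}) ⟶ S := T₀.ι ≫ h
  have hf_fl : Flat f := inferInstance
  have hf_fp : LocallyOfFinitePresentation f := inferInstance
  have hf_qf : LocallyQuasiFinite f := inferInstance
  have hf_sep : IsSeparated f := inferInstance
  let t₀ : (T₀ : Scheme.{u}) := ⟨t, htT₀⟩
  have hft₀ : f t₀ = g x := by
    change h (T₀.ι t₀) = g x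
    exact ht
  obtain ⟨U, gU, u, hgU, hu, J, hJ, V, v, hclopen, hdisj, hV, hcover⟩ :=
    Groth.Agent.S9778.result f (g x) (ι := Unit) (fun _ => t₀) (fun _ _ _ => rfl) (fun _ => hft₀)
      (fun _ => f.quasiFiniteAt t₀)
  obtain ⟨w, hw1, hw2⟩ := Scheme.Pullback.exists_preimage_pullback (f := f) (g := gU) t₀ u
    (hft₀.trans hu.symm)
  obtain ⟨j, hwj⟩ := hcover w () hw2 hw1
  let V₀ : (pullback f gU).Opens := V () j
  let π₀ : (V₀ : Scheme.{u}) ⟶ U := V₀.ι ≫ pullback.snd f gU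
  have hπ₀fin : IsFinite π₀ := (hV () j).2.1
  have hπ₀fl : Flat π₀ := inferInstance
  have hπ₀fp : LocallyOfFinitePresentation π₀ := inferInstance
  have hπ₀open : IsOpenMap π₀ := π₀.isOpenMap
  let S' : U.Opens := ⟨Set.range π₀, hπ₀open.isOpen_range⟩
  have hrange : Set.range π₀ ⊆ Set.range S'.ι := by
    intro y hy
    rw [Scheme.Opens.range_ι]
    exact hy
  let π : (V₀ : Scheme.{u}) ⟶ (S' : Scheme.{u}) := IsOpenImmersion.lift S'.ι π₀ hrange
  have hπ : π ≫ S'.ι = π₀ := IsOpenImmersion.lift_fac _ _ _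
  have hsq : IsPullback (𝟙 (V₀ : Scheme.{u})) π π₀ S'.ι := by
    have h1 : IsPullback (𝟙 (V₀ : Scheme.{u})) π π (𝟙 (S' : Scheme.{u})) :=
      IsPullback.of_horiz_isIso ⟨by simp⟩
    have h2 : IsPullback (𝟙 (S' : Scheme.{u})) (𝟙 (S' : Scheme.{u})) S'.ι S'.ι :=
      (IsKernelPair.id_of_mono S'.ι)
    have := h1.paste_vert h2
    simpa [hπ] using this
  refine ⟨S', V₀, S'.ι ≫ gU, π, V₀.ι ≫ pullback.fst f gU ≫ T₀.ι ≫ r₀,
    ⟨u, ⟨⟨w, hwj⟩, hw2⟩⟩, inferInstance, ?_, ?_, ?_, ?_, ?_, ?_⟩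
  · change gU (S'.ι _) = g x
    exact hu
  · constructor
    rintro ⟨y, x, rfl⟩
    refine ⟨x, ?_⟩
    apply S'.ι.injective
    rw [← Scheme.Hom.comp_apply, hπ]
    rfl
  · exact MorphismProperty.of_isPullback (P := @IsFinite) hsq hπ₀fin
  · exact MorphismProperty.of_isPullback (P := @Flat) hsq hπ₀fl
  · exact MorphismProperty.of_isPullback (P := @LocallyOfFinitePresentation) hsq hπ₀fp
  · rw [← Category.assoc π, hπ]
    simp only [π₀, f, Category.assoc]
    rw [hr₀, ← pullback.condition]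

end Groth.Agent.H68.Fppf
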