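import Mathlib
import Groth.Agent.H68.Fppf.EtaleFinFlat
import Groth.Agent.H7.EtaleDominated

/-!
# fppf covers are refined by Zariski / finite locally free / Zariski / finite locally free towers
(helper68)
-/

set_option autoImplicit false
universe u
open CategoryTheory CategoryTheory.Limits AlgebraicGeometry

namespace Groth.Agent.H68.Fppf

set_option backward.isDefEq.respectTransparency false in
theorem exists_tower {S₁ S : Scheme.{u}} (g : S₁ ⟶ S) [Flat g] [LocallyOfFinitePresentation g]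
    (x : S₁) :
    ∃ (U : S.Opens) (W : Scheme.{u}) (π : W ⟶ (U : Scheme.{u})), g x ∈ U ∧ IsFinite π ∧ Flat π ∧
      LocallyOfFinitePresentation π ∧ Surjective π ∧
      ∀ w : W, ∃ (W' : W.Opens) (T : Scheme.{u}) (ρ : T ⟶ (W' : Scheme.{u})) (r : T ⟶ S₁),
        w ∈ W' ∧ IsFinite ρ ∧ Flat ρ ∧ LocallyOfFinitePresentation ρ ∧ Surjective ρ ∧
        r ≫ g = ρ ≫ W'.ι ≫ π ≫ U.ι := by
  obtain ⟨S', V, e, πV, r, u, he, hu, hπs, hπf, hπfl, hπp, hr⟩ :=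
    exists_etale_finite_flat_global g x
  obtain ⟨V₀, T₀, π₀, hsV₀, hV₀, hs₀, hf₀, hfl₀, hp₀, hloc⟩ :=
    Groth.Agent.H7.etale_nbhd_dominated_by_finite_flat e u (g x) hu
  let OT : Set T₀ := {t | ∃ (W : T₀.Opens) (h : (W : Scheme.{u}) ⟶ S'), t ∈ W ∧
    h ≫ e = W.ι ≫ π₀ ≫ V₀.ι}
  have hOT : IsOpen OT := by
    rw [isOpen_iff_forall_mem_open]
    rintro t ⟨W, h, htW, hh⟩
    exact ⟨W, fun z hz => ⟨W, h, hz, hh⟩, W.isOpen, htW⟩
  have hC : IsClosed (π₀ '' OTᶜ) := π₀.isClosedMap _ hOT.isClosed_compl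
  let C' : (V₀ : Scheme.{u}).Opens := ⟨(π₀ '' OTᶜ)ᶜ, hC.isOpen_compl⟩
  have hsC' : (⟨g x, hsV₀⟩ : (V₀ : Scheme.{u})) ∈ C' := by
    rintro ⟨t, htO, ht⟩
    apply htO
    obtain ⟨W, h, htW, hh, -⟩ := hloc t (by rw [ht]; rfl)
    exact ⟨W, h, htW, hh⟩
  let U : S.Opens := V₀.ι ''ᵁ C'
  let P : T₀.Opens := π₀ ⁻¹ᵁ C'
  let π : (P : Scheme.{u}) ⟶ (U : Scheme.{u}) := (π₀ ∣_ C') ≫ (V₀.ι.isoImage C').hom
  have hπι : π ≫ U.ι = P.ι ≫ π₀ ≫ V₀.ι := by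
    change ((π₀ ∣_ C') ≫ (V₀.ι.isoImage C').hom) ≫ (V₀.ι ''ᵁ C').ι = _
    rw [Category.assoc, Scheme.Hom.isoImage_hom_ι, morphismRestrict_ι_assoc]
  haveI : IsFinite (π₀ ∣_ C') := IsZariskiLocalAtTarget.restrict hf₀ C'
  haveI : Flat (π₀ ∣_ C') := IsZariskiLocalAtTarget.restrict hfl₀ C'
  haveI : LocallyOfFinitePresentation (π₀ ∣_ C') := IsZariskiLocalAtTarget.restrict hp₀ C'
  haveI : Surjective (π₀ ∣_ C') := IsZariskiLocalAtTarget.restrict hs₀ C'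
  refine ⟨U, P, π, ⟨⟨g x, hsV₀⟩, hsC', rfl⟩, inferInstance, inferInstance, inferInstance,
    inferInstance, ?_⟩
  intro w
  have hwO : w.1 ∈ OT := by
    by_contra hw
    exact w.2 ⟨w.1, hw, rfl⟩
  obtain ⟨Wt, h, hwW, hh⟩ := hwO
  let W' : (P : Scheme.{u}).Opens := P.ι ⁻¹ᵁ Wt
  let h' : (W' : Scheme.{u}) ⟶ S' := (P.ι ∣_ Wt) ≫ h
  have hh' : h' ≫ e = W'.ι ≫ π ≫ U.ι := by
    change ((P.ι ∣_ Wt) ≫ h) ≫ e = _
    rw [Category.assoc, hh, morphismRestrict_ι_assoc, hπι]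
  refine ⟨W', pullback h' πV, pullback.fst h' πV, pullback.snd h' πV ≫ r, hwW, inferInstance,
    inferInstance, inferInstance, inferInstance, ?_⟩
  rw [Category.assoc, hr, ← reassoc_of% (pullback.condition (f := h') (g := πV)), hh']

end Groth.Agent.H68.Fppf
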